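import Mathlib
import Cfsg.Agent.Lib.Helper28.BGtF

set_option autoImplicit false

namespace Cfsg.Agent.Lib.Helper1.BG15

open Cfsg Cfsg.Agent.Lib.Helper18 Cfsg.Agent.Lib.Helper28.BGt

variable {G : Type*} [Group G]

theorem card_of_isComplIn {A B M : Subgroup G} (h : Cfsg.IsComplIn A B M) :
    Nat.card M = Nat.card A * Nat.card B := by
  rw [← Nat.card_prod]
  symm
  let f : A × B → ↥M := fun z => ⟨(z.1 : G) * (z.2 : G), M.mul_mem (h.1 z.1.2) (h.2.1 z.2.2)⟩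
  apply Nat.card_congr (Equiv.ofBijective f ⟨?_, ?_⟩)
  · rintro ⟨⟨x, hx⟩, ⟨y, hy⟩⟩ ⟨⟨x', hx'⟩, ⟨y', hy'⟩⟩ hxy
    have h1 : x * y = x' * y' := congrArg Subtype.val hxy
    have h2 : x'⁻¹ * x = y' * y⁻¹ := by
      calc x'⁻¹ * x = x'⁻¹ * (x * y) * y⁻¹ := by group
        _ = x'⁻¹ * (x' * y') * y⁻¹ := by rw [h1]
        _ = y' * y⁻¹ := by group
    have h3 : x'⁻¹ * x ∈ A ⊓ B := by
      refine Subgroup.mem_inf.mpr ⟨A.mul_mem (A.inv_mem hx') hx, ?_⟩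
      rw [h2]; exact B.mul_mem hy' (B.inv_mem hy)
    rw [h.2.2.1, Subgroup.mem_bot] at h3
    have hxx : x = x' := (inv_mul_eq_one.mp h3).symm
    have hyy : y = y' := by
      rw [hxx] at h1
      exact mul_left_cancel h1
    subst hxx; subst hyy; rfl
  · rintro ⟨c, hc⟩
    obtain ⟨a, ha, b, hb, rfl⟩ := h.2.2.2 c hc
    exact ⟨⟨⟨a, ha⟩, ⟨b, hb⟩⟩, rfl⟩

theorem eq_bot_of_forall_prime_not_dvd [Finite G] {H : Subgroup G}
    (h : ∀ q : ℕ, q.Prime → ¬ q ∣ Nat.card H) : H = ⊥ := by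
  apply Subgroup.eq_bot_of_card_eq
  by_contra hne
  obtain ⟨q, hq, hqd⟩ := Nat.exists_prime_and_dvd hne
  exact h q hq hqd

variable [Finite G]

theorem kappa_inf_sigmaCore (hG : Cfsg.IsMinSimpleOddOrder G) {M : Subgroup G} (hM : IsCoatom M)
    {K : Subgroup G} (hK : ∀ q : ℕ, q.Prime → q ∣ Nat.card K → q ∈ Cfsg.kappa M) :
    K ⊓ Cfsg.sigmaCore M = ⊥ := by
  apply eq_bot_of_forall_prime_not_dvd
  intro q hq hqd
  have h1 : q ∣ Nat.card K := hqd.trans (Subgroup.card_dvd_of_le inf_le_left)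
  have h2 : q ∣ Nat.card (Cfsg.sigmaCore M) := hqd.trans (Subgroup.card_dvd_of_le inf_le_right)
  exact (hK q hq h1).2.2.1 (prime_sigmaCore hG hM hq h2)

theorem compl_of_decomp (hG : Cfsg.IsMinSimpleOddOrder G) {M K U : Subgroup G} (hM : IsCoatom M)
    (h : Cfsg.IsSigmaDecomposition M K U) : Cfsg.IsComplIn (U ⊔ K) (Cfsg.sigmaCore M) M := by
  have hUM : U ≤ M := h.compl.1
  have hKM : K ≤ M := h.hall.1
  have hKs : K ⊓ Cfsg.sigmaCore M = ⊥ := kappa_inf_sigmaCore hG hM h.hall.2.1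
  have hKN : K ≤ Subgroup.normalizer (Cfsg.sigmaCore M : Set G) :=
    hKM.trans (le_normalizer_sigmaCore M)
  refine ⟨sup_le hUM hKM, sigmaCore_le M, ?_, ?_⟩
  · rw [eq_bot_iff]
    rintro x ⟨hx1, hx2⟩
    obtain ⟨u, hu, k, hk, rfl⟩ := Cfsg.Agent.Lib.Helper10.exists_mul_of_mem_sup U K h.normal x hx1
    have hu' : u ∈ K ⊔ Cfsg.sigmaCore M := by
      have e : u = (u * k) * k⁻¹ := by group
      rw [e]
      have h1 : k⁻¹ * (k * (u * k) * k⁻¹) = (u * k) * k⁻¹ := by group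
      have h2 : k * (u * k) * k⁻¹ ∈ Cfsg.sigmaCore M :=
        conj_mem_of_le_normalizer hKN hk hx2
      rw [← h1]
      exact Subgroup.mul_mem _ (Subgroup.mem_sup_left (K.inv_mem hk)) (Subgroup.mem_sup_right h2)
    have hu1 : u ∈ U ⊓ (K ⊔ Cfsg.sigmaCore M) := ⟨hu, hu'⟩
    rw [h.compl.2.2.1, Subgroup.mem_bot] at hu1
    subst hu1
    rw [one_mul] at hx2 ⊢
    have : k ∈ K ⊓ Cfsg.sigmaCore M := ⟨hk, hx2⟩
    rwa [hKs] at this
  · intro m hm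
    obtain ⟨u, hu, b, hb, rfl⟩ := h.compl.2.2.2 m hm
    obtain ⟨s, hs, k, hk, rfl⟩ :=
      Cfsg.Agent.Lib.Helper10.exists_mul_of_mem_sup (Cfsg.sigmaCore M) K hKN b
        (by rwa [sup_comm] at hb)
    refine ⟨u * k, Subgroup.mul_mem _ (Subgroup.mem_sup_left hu) (Subgroup.mem_sup_right hk),
      k⁻¹ * s * k, ?_, by group⟩
    have := conj_mem_of_le_normalizer hKN (K.inv_mem hk) hs
    simpa using this

theorem not_kappa_of_dvd_U {M K U : Subgroup G} (h : Cfsg.IsSigmaDecomposition M K U) {q : ℕ}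
    (hqU : q ∣ Nat.card U) : q ∉ Cfsg.kappa M := by
  intro hq
  apply h.hall.2.2 q hq.1 hq
  have h1 := card_of_isComplIn h.compl
  have h2 := Cfsg.Agent.Lib.Helper1.BG12.card_mul_relIndex_of_le h.hall.1
  have h3 : Nat.card K ∣ Nat.card ↥(K ⊔ Cfsg.sigmaCore M) := Subgroup.card_dvd_of_le le_sup_left
  obtain ⟨t, ht⟩ := h3
  rw [h1, ht] at h2
  have hpos : 0 < Nat.card K := Nat.card_pos
  have h4 : K.relIndex M = Nat.card U * t := by
    apply Nat.eq_of_mul_eq_mul_left hpos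
    rw [h2]; ring
  rw [h4]
  exact Dvd.dvd.mul_right hqU t

end Cfsg.Agent.Lib.Helper1.BG15
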