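import Mathlib
import Cfsg.Agent.Lib.Helper1.BG15.SigmaDecomp
import Cfsg.Agent.Lib.Helper28.BGtD

set_option autoImplicit false

namespace Cfsg.Agent.Lib.Helper1.BG15

open Cfsg Cfsg.Agent.Lib.Helper18 Cfsg.Agent.Lib.Helper28.BGt

variable {G : Type*} [Group G] [Finite G]

theorem rank_le_two_of_not_sigma (hG : Cfsg.IsMinSimpleOddOrder G) {M : Subgroup G}
    (hM : IsCoatom M) {q : ℕ} (hq : q.Prime) (hqσ : q ∉ Cfsg.sigma M) : Cfsg.PRankLE q 2 M := by
  by_contra h2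
  exact hqσ (Cfsg.Agent.Lib.Helper11.BenderN.alpha_sub_sigma hG M hM q ⟨hq, h2⟩)

theorem mem_kappa_of_nonregular (hG : Cfsg.IsMinSimpleOddOrder G) {M : Subgroup G}
    (hM : IsCoatom M) {q : ℕ} (hq : q.Prime) (hqσ : q ∉ Cfsg.sigma M)
    (hr1 : Cfsg.PRankLE q 1 M) {x : G} (hxM : x ∈ M) (hxo : orderOf x = q) {y : G}
    (hy : y ∈ Cfsg.sigmaCore M) (hy1 : y ≠ 1) (hxy : x * y = y * x) : q ∈ Cfsg.kappa M := by
  have hqf : Fact q.Prime := ⟨hq⟩
  have hqM : q ∣ Nat.card M := by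
    rw [← hxo]
    exact Subgroup.orderOf_dvd_natCard M hxM
  have hq2 : q ≠ 2 := Cfsg.Agent.Lib.Helper1.BG10.prime_ne_two hG q M hqM
  refine ⟨hq, hqM, hqσ, fun P => ⟨?_, ?_⟩⟩
  · exact Cfsg.Agent.Lib.Helper1.BG12.cyclic_of_rank_one q hq2 _ P.isPGroup' hr1
  · have hzM : Subgroup.zpowers x ≤ M := Subgroup.zpowers_le.mpr hxM
    have hzp : IsPGroup q (Subgroup.zpowers x) := by
      apply IsPGroup.of_card (n := 1)
      rw [Nat.card_zpowers, hxo, pow_one]
    obtain ⟨m, hm, hle⟩ := (isSylowIn_of_sylow P).exists_conj_le hzM hzp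
    have hx' : m * x * m⁻¹ ∈ (P : Subgroup M).map M.subtype :=
      hle (conj_mem_conjSub (Subgroup.mem_zpowers x))
    obtain ⟨x', hx'P, hx'e⟩ := hx'
    have hx1 : x ≠ 1 := by
      intro h
      rw [h, orderOf_one] at hxo
      exact hq.one_lt.ne hxo
    refine ⟨x', hx'P, ?_, m * y * m⁻¹, ?_, ?_, ?_⟩
    · intro h
      rw [h] at hx'e
      apply hx1
      have h2 : m * x * m⁻¹ = 1 := by rw [← hx'e]; rfl
      have : x = m⁻¹ * (m * x * m⁻¹) * m := by group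
      rw [this, h2]; group
    · exact conj_mem_of_le_normalizer (le_normalizer_sigmaCore M) hm hy
    · intro h
      apply hy1
      have : y = m⁻¹ * (m * y * m⁻¹) * m := by group
      rw [this, h]; group
    · have h2 : (x' : G) = m * x * m⁻¹ := hx'e
      rw [h2]
      calc m * x * m⁻¹ * (m * y * m⁻¹) = m * (x * y) * m⁻¹ := by group
        _ = m * (y * x) * m⁻¹ := by rw [hxy]
        _ = m * y * m⁻¹ * (m * x * m⁻¹) := by group

theorem tau2_of_nonregular (hG : Cfsg.IsMinSimpleOddOrder G) {M K U : Subgroup G}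
    (hM : IsCoatom M) (h : Cfsg.IsSigmaDecomposition M K U) {x : G} (hxU : x ∈ U) {q : ℕ}
    (hq : q.Prime) (hqx : q ∣ orderOf x) {y : G} (hy : y ∈ Cfsg.sigmaCore M) (hy1 : y ≠ 1)
    (hxy : x * y = y * x) : q ∈ Cfsg.tau2 M := by
  have hE := compl_of_decomp hG hM h
  have hqU : q ∣ Nat.card U := hqx.trans (Subgroup.orderOf_dvd_natCard U hxU)
  have hqE : q ∣ Nat.card ↥(U ⊔ K) := hqU.trans (Subgroup.card_dvd_of_le le_sup_left)
  have hqσ := compl_prime_not_sigma hG hM hE hq hqE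
  have hr2 := rank_le_two_of_not_sigma hG hM hq hqσ
  by_contra hτ
  have hr1 : Cfsg.PRankLE q 1 M := by
    by_contra h1
    exact hτ ⟨hq, hqσ, hr2, h1⟩
  apply not_kappa_of_dvd_U h hqU
  have hx0 : orderOf x ≠ 0 := (orderOf_pos x).ne'
  have hxo : orderOf (x ^ (orderOf x / q)) = q := orderOf_pow_orderOf_div hx0 hqx
  refine mem_kappa_of_nonregular hG hM hq hqσ hr1 (M.pow_mem (h.compl.1 hxU) _) hxo hy hy1 ?_
  exact ((Commute.pow_left (show Commute x y from hxy) _)).eq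

end Cfsg.Agent.Lib.Helper1.BG15
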