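import Mathlib
import Cfsg.Agent.Lib.Helper1.BG15.URegular

set_option autoImplicit false

namespace Cfsg.Agent.Lib.Helper1.BG15

open Cfsg Cfsg.Agent.Lib.Helper18 Cfsg.Agent.Lib.Helper28.BGt

variable {G : Type*} [Group G] [Finite G]

theorem u_cent_unique (hG : Cfsg.IsMinSimpleOddOrder G) (h16 : T1416 G) (h17 : T1417 G)
    (nc : NC G) {M K U : Subgroup G} (hM : IsCoatom M) (h : Cfsg.IsSigmaDecomposition M K U)
    {X : Subgroup G} (hXU : X ≤ U) (hX : X ≠ ⊥)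
    (hXc : Cfsg.sigmaCore M ⊓ Subgroup.centralizer (X : Set G) ≠ ⊥) :
    Subgroup.centralizer (X : Set G) ≤ M ∧
      ∀ L : Subgroup G, IsCoatom L → Subgroup.centralizer (X : Set G) ≤ L → L = M := by
  obtain ⟨⟨y, hy⟩, hy1'⟩ := (Subgroup.ne_bot_iff_exists_ne_one).mp hXc
  have hy1 : y ≠ 1 := fun e => hy1' (Subtype.ext e)
  obtain ⟨hyS, hyC⟩ := hy
  have hcomm : ∀ x ∈ X, x * y = y * x := fun x hx => Subgroup.mem_centralizer_iff.mp hyC x hx
  obtain ⟨⟨x, hx⟩, hx1'⟩ := (Subgroup.ne_bot_iff_exists_ne_one).mp hX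
  have hx1 : x ≠ 1 := fun e => hx1' (Subtype.ext e)
  have hxo : orderOf x ≠ 1 := fun e => hx1 (orderOf_eq_one_iff.mp e)
  obtain ⟨q, hq, hqx⟩ := Nat.exists_prime_and_dvd hxo
  have hqτ := tau2_of_nonregular hG hM h (hXU hx) hq hqx hyS hy1 (hcomm x hx)
  have hE := compl_of_decomp hG hM h
  obtain ⟨B, hBE, hBe, hB2⟩ := exists_sq_le_compl hG hM hE hqτ
  have c : Tau2Ctx M (U ⊔ K) q B := ⟨hG, h16, h17, hM, hE, hqτ, hBE, hBe, hB2⟩
  have hBC : B ≤ Subgroup.centralizer (X : Set G) := by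
    intro b hb
    rw [Subgroup.mem_centralizer_iff]
    intro x' hx'
    have h1 := c.tau2elem_centralizes nc (x := x') (Subgroup.mem_sup_left (hXU hx'))
      (fun r hr hrx => tau2_of_nonregular hG hM h (hXU hx') hr hrx hyS hy1 (hcomm x' hx'))
    exact (Subgroup.mem_centralizer_iff.mp h1 b hb).symm
  exact c.unique_of_meets (Tau2Ctx.centralizer_ne_top_of_ne_bot hG hX) hBC hXc

end Cfsg.Agent.Lib.Helper1.BG15
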